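import Groth.Agent.Curves.K314.GorInv
import Groth.Agent.Curves.K314.DualGG
import Groth.Agent.Curves.K326.PtIdeal
import Groth.Agent.Canon.K107.ExistsDual
import Groth.Agent.Canon.K769.Basic
import Groth.Agent.PicF.K246.CanSec
import Groth.Agent.S0342
import Groth.Agent.S1534
import Groth.Agent.S1604

/-!
# Sections of the dualizing module near a regular point of a curve
-/

set_option autoImplicit false
universe u
open CategoryTheory CategoryTheory.Limits AlgebraicGeometry TopologicalSpace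
attribute [local instance] HasDerivedCategory.standard

namespace K840.OmegaPt

open Groth.Agent Groth.Agent.PerfA.Restrict Groth.Agent.Fdesc.LocGen Groth.Agent.CurvesC
open Groth.Agent.Fga.RegSec Groth.Agent.CohqB.DevSupport Groth.Agent.CycB.StalkExact Groth.Agent.Divis.CartierStalk

section Pair

variable {k : Type u} [Field k] {X : Scheme.{u}} [X.Over (Spec (CommRingCat.of k))]

theorem isDual_of_isRDualOver {ω : X.Modules} {tr : Coh.HH X ω 1 →ₗ[k] k} (h : Canon.IsRDualOver k X 1 ω tr) :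
    IsDual (k := k) ω (tr ∘ₗ (HV.equiv k ω 1).toLinearMap) := by
  refine isDual_of_raw fun F hF ψ => ?_
  obtain ⟨φ, hφ, hu⟩ := (h.2 F hF).existsUnique ψ
  exact ⟨φ, fun x => (LinearMap.congr_fun hφ x).symm, fun φ' h' => hu φ' (LinearMap.ext fun x => (h' x).symm)⟩

end Pair

/-- A local version of `K314.GorInv.isInvertible_HD`. -/
theorem exists_iso_HD {X : Scheme.{u}} (K : DCoh.D X) (m : ℤ) (x : X)
    (h : ∃ (U : X.Opens) (n : ℤ), x ∈ U ∧ Nonempty ((restrictD U.ι).obj K ≅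
      (DCoh.inD (U : Scheme.{u}) (Coh.structureModule (U : Scheme.{u})))⟦n⟧))
    (hne : Nontrivial ((DCoh.HD K m).presheaf.stalk x)) :
    ∃ U : X.Opens, x ∈ U ∧ Nonempty ((DCoh.HD K m).restrict U.ι ≅ Coh.structureModule (U : Scheme.{u})) := by
  obtain ⟨U, n, hx, ⟨e⟩⟩ := h
  let e1 : (DCoh.HD K m).restrict U.ι ≅ (DerivedCategory.homologyFunctor (U : Scheme.{u}).Modules m).obj
      ((DerivedCategory.singleFunctor (U : Scheme.{u}).Modules (-n)).obj
        (Coh.structureModule (U : Scheme.{u}))) :=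
    (HDrestrict U.ι K m).symm ≪≫ (DerivedCategory.homologyFunctor (U : Scheme.{u}).Modules m).mapIso
      (e ≪≫ Dual.H324.InvLoc.shiftOSingle (U : Scheme.{u}) n)
  by_cases hm : m = -n
  · subst hm
    exact ⟨U, hx, ⟨e1 ≪≫ K314.GorInv.homologySingleIso (-n) _⟩⟩
  · exfalso
    have hz : IsZero ((DCoh.HD K m).restrict U.ι) := (K314.GorInv.isZero_homology_single (-n) m hm _).of_iso e1
    have hz2 : Subsingleton ((DCoh.HD K m).presheaf.stalk x) :=
      have := VarietyA.StalkCrit.stalk_of_isZero hz ⟨x, hx⟩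
      (Dcoh.StalkRestrict.ρ U.ι (DCoh.HD K m) ⟨x, hx⟩).symm.toEquiv.subsingleton
    exact not_subsingleton _ hz2

theorem exists_gen_of_iso {X : Scheme.{u}} {L : X.Modules} {x : X} {U : X.Opens} (hx : x ∈ U)
    (e : L.restrict U.ι ≅ Coh.structureModule (U : Scheme.{u})) :
    ∃ (V : X.Opens) (g : Γ(L, V)), x ∈ V ∧ IsGen g := by
  have h1 : IsGen (sec e.inv ⊤) := (isIso_iff_isGen e.inv).mp inferInstance
  obtain ⟨m, hm⟩ := (toRestrict (M := L) U.ι (U := ⊤)).surjective (sec e.inv ⊤)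
  rw [← hm, isGen_toRestrict_iff] at h1
  exact ⟨_, m, by simpa using hx, h1⟩

/-- The dualizing module is coherent and has a local generator near a Gorenstein point. -/
theorem exists_gen (k : Type u) [Field k] (X : Scheme.{u}) [X.Over (Spec (CommRingCat.of k))]
    [IsProper (X ↘ Spec (CommRingCat.of k))] (hdim : topologicalKrullDim X ≤ ((1 : ℕ) : WithBot ℕ∞))
    (hCM : ∀ x : X, LocCoh.IsCohenMacaulayLocalRing (X.presheaf.stalk x))
    (hd : ∀ Z : Set X, Z ∈ irreducibleComponents X → topologicalKrullDim ↥Z = ((1 : ℕ) : WithBot ℕ∞))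
    {ω : X.Modules} {tr : Coh.HH X ω 1 →ₗ[k] k} (hω : Canon.IsRDualOver k X 1 ω tr) :
    Coh.IsCoh ω ∧ ∀ p : X, LocCoh.IsGorensteinLocalRing (X.presheaf.stalk p) →
      ∃ (U : X.Opens) (e : Γ(ω, U)), p ∈ U ∧ IsGen e := by
  have hN : IsNoetherian X := Groth.Agent.LoccohB.AdStruct.isNoetherian_of_finiteType (X ↘ Spec (CommRingCat.of k))
  have r1 : DCoh.HasRpush (X ↘ Spec (CommRingCat.of k)) := Dcoh.DerSch.hasRpush _
  have hf : ∀ N : DCoh.D X, DCoh.IsQCohD N → DCoh.IsQCohD ((DCoh.Rpush (X ↘ Spec (CommRingCat.of k))).obj N) :=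
    fun N hN => S0998.result _ N hN
  have := S1766.result X (Spec (CommRingCat.of k)) (X ↘ Spec (CommRingCat.of k)) hf
  let adj := Adjunction.ofIsLeftAdjoint (ObjectProperty.lift DCoh.IsQCohD
    (ObjectProperty.ι DCoh.IsQCohD ⋙ DCoh.Rpush (X ↘ Spec (CommRingCat.of k))) (fun K => hf K.obj K.property))
  let O := DCoh.inD (Spec (CommRingCat.of k)) (Coh.structureModule (Spec (CommRingCat.of k)))
  have hOq : DCoh.IsQCohD O := PerfA.QCohD.isQCohD_inD _ (Fdesc.StructMod.isQCoh_structureModule _)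
  have hd' : ∀ s : Spec (CommRingCat.of k),
      topologicalKrullDim ↥((X ↘ Spec (CommRingCat.of k)).fiber s) ≤ (1 : ℕ) := fun s => by
    rw [K107.CompDim.dim_fiber]
    exact hdim
  obtain ⟨tr', htr'⟩ := K968.Compare1.isDualizingSheaf_HD k 1 hd' (h := hf) adj ⟨O, hOq⟩ ⟨Iso.refl _⟩
  have hK := Dual.H341.HypField.isDualizingSch k X (X ↘ Spec (CommRingCat.of k)) hf _ adj ⟨O, hOq⟩ ⟨Iso.refl _⟩
  obtain ⟨e⟩ := K769.Basic.nonempty_iso hω htr'
  have hcoh := Ega1.DualSchBdd.isCohD_of_isDualizingSch hK (-((1 : ℕ) : ℤ))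
  obtain ⟨-, -, hne⟩ := S3637.result k X (X ↘ Spec (CommRingCat.of k)) hCM 1 hd hf _ adj ⟨O, hOq⟩ ⟨Iso.refl _⟩
  refine ⟨Sga67.CohBasic.isCoh_of_iso e hcoh, fun p hG => ?_⟩
  obtain ⟨A, _, _, j, _, q, rfl, -⟩ := Dual.H324.InvLoc.exists_chart_le p ⊤ trivial
  obtain ⟨W, hW, ⟨e'⟩⟩ := hK A j
  obtain ⟨U, hx, ⟨i⟩⟩ := exists_iso_HD _ (-((1 : ℕ) : ℤ)) _
    (Dual.H324.InvLoc.exists_nhd _ j q hW e' hG) (hne _).1
  exact exists_gen_of_iso hx ((Scheme.Modules.restrictFunctor U.ι).mapIso e.symm ≪≫ i)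

section Main

variable {k : Type u} [Field k] {X : Scheme.{u}} [X.Over (Spec (CommRingCat.of k))]

theorem stalk_surjective_of_mem {L : X.Modules} (s : Coh.structureModule X ⟶ L) {x : X}
    (hx : x ∈ CohB1.genLocus L s) : Function.Surjective (stalkLin s x) := by
  have h1 : IsIso ((stalkF X x).map s) := by
    refine isIso_stalk_of_bijective s _ (fun V hV => ?_) hx
    have h2 := isGen_sec_genLocus s V hV
    rw [res_sec] at h2
    refine (Function.Bijective.of_comp_iff _ (ofFun (X := X) (U := V)).bijective).mp ?_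
    convert h2 using 1
    funext a
    exact app_ofFun s a
  exact ((ConcreteCategory.isIso_iff_bijective _).mp h1).2

theorem surjective_H1 [IsNoetherian X] (hdim : topologicalKrullDim X ≤ 1) {L : X.Modules}
    (hL : PicF.IsInvertible L) (s : Coh.structureModule X ⟶ L)
    (hs : ∀ ξ : X, CurvesB.SubH1.IsGen ξ → ξ ∈ CohB1.genLocus L s) :
    Function.Surjective (HV.map k s 1) := by
  refine K314.RegPow.surjective_H1_of_small hdim s (CurvesB.SubPoint.isCoh_of_isInvertible hL).2 fun ξ hξ => ?_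
  refine (VarietyA.StalkCrit.subsingleton_cokernel_stalk_iff s ξ).mpr fun y => ?_
  exact stalk_surjective_of_mem s (hs ξ hξ) y

/-- If all nonzero sections of the dualizing module generate it at a point where the section `s` of `L` vanishes,
then `H^1(L) = 0`. -/
theorem subsingleton_of_gen [IsNoetherian X] (hdim : topologicalKrullDim X ≤ 1) {w : X.Modules}
    {t : HV X w 1 →ₗ[k] k} (h : IsDual w t) {L : X.Modules} (hL : PicF.IsInvertible L)
    (s : Coh.structureModule X ⟶ L) (hs : ∀ ξ : X, CurvesB.SubH1.IsGen ξ → ξ ∈ CohB1.genLocus L s)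
    {p : X} (hp : p ∉ CohB1.genLocus L s)
    (hall : ∀ σ : Coh.structureModule X ⟶ w, σ ≠ 0 → p ∈ CohB1.genLocus w σ) :
    Subsingleton (HV X L 1) := by
  by_contra hcon
  obtain ⟨ψ, hψ⟩ := K314.DualGG.exists_functional (k := k) hcon
  obtain ⟨φ, hφ, -⟩ := h L (CurvesB.SubPoint.isCoh_of_isInvertible hL).1 ψ
  have hne : s ≫ φ ≠ 0 := by
    intro h0
    apply hψ
    ext y
    obtain ⟨z, rfl⟩ := surjective_H1 (k := k) hdim hL s hs y
    have h1 : ψ ∘ₗ HV.map k s 1 = 0 := by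
      rw [← hφ, LinearMap.comp_assoc, ← HV.map_comp, h0, HV.map_zero, LinearMap.comp_zero]
    exact LinearMap.congr_fun h1 z
  obtain ⟨V, hpV, hV⟩ := (mem_genLocus_iff (s ≫ φ) p).1 (hall _ hne)
  obtain ⟨U, hpU, e, a, he, ha, -, hmax⟩ := exists_gen_of_not_mem s hL hp
  have hp' : p ∈ V ⊓ U := ⟨hpV, hpU⟩
  have hW := hV.res (inf_le_left : V ⊓ U ≤ V)
  rw [res_sec] at hW
  obtain ⟨b, hb⟩ := hW.exists_eq (φ.app (V ⊓ U) (res L inf_le_right e))
  have h2 : sec (s ≫ φ) (V ⊓ U) = (ores (inf_le_right : V ⊓ U ≤ U) a * b) • sec (s ≫ φ) (V ⊓ U) := by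
    conv_lhs => rw [sec_comp, ← res_sec s (inf_le_right : V ⊓ U ≤ U), ha, res_smul, Scheme.Modules.Hom.app_smul, hb]
    rw [mul_smul]
  have h3 : (1 : Γ(X, V ⊓ U)) = ores inf_le_right a * b := hW.ext (by rw [one_smul]; exact h2)
  have h4 : IsUnit (X.presheaf.germ (V ⊓ U) p hp' (ores inf_le_right a)) := by
    refine IsUnit.of_mul_eq_one (X.presheaf.germ (V ⊓ U) p hp' b) ?_
    rw [← map_mul, ← h3, map_one]
  have h5 : X.presheaf.germ (V ⊓ U) p hp' (ores inf_le_right a) = X.presheaf.germ U p hpU a :=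
    TopCat.Presheaf.germ_res_apply _ _ _ _ _
  rw [h5] at h4
  exact hmax h4

/-- A point with a local generator and a nonzerodivisor in the maximal ideal generating it is not associated. -/
theorem not_mem_ass {w : X.Modules} {p : X} {U : X.Opens} (hpU : p ∈ U) {e : Γ(w, U)} (he : IsGen e)
    {a : X.presheaf.stalk p} (ha : a ∈ IsLocalRing.maximalIdeal (X.presheaf.stalk p))
    (hreg : a ∈ nonZeroDivisors (X.presheaf.stalk p)) : p ∉ AssSch.Ass w := by
  rintro ⟨hprime, y, hy⟩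
  rw [hy] at ha
  obtain ⟨n, hn⟩ := ha
  rw [Submodule.mem_colon_singleton, Submodule.mem_bot] at hn
  have h4 : CycB.ModStalk.IsGen w p (w.presheaf.germ U p hpU e) :=
    CycB.ModStalk.IsGenOn.isGen (fun V hV => he V hV) p hpU
  obtain ⟨r, rfl⟩ := h4.2 y
  have h5 : a ^ n * r = 0 := h4.1 (by
    beta_reduce at hn ⊢
    rw [zero_smul, mul_smul]
    exact hn)
  have h6 : r = 0 := (mem_nonZeroDivisors_iff_right.mp (pow_mem hreg n)) r (by rw [mul_comm]; exact h5)
  apply hprime.ne_top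
  rw [hy, Ideal.eq_top_iff_one]
  refine ⟨0, ?_⟩
  rw [Submodule.mem_colon_singleton, h6]
  simp

/-- If `H^1(L) = 0` for `L = O(p)` then all nonzero sections of the dualizing module generate it at `p`. -/
theorem mem_genLocus_of_subsingleton [IsLocallyNoetherian X] {w : X.Modules}
    {t : HV X w 1 →ₗ[k] k} (h : IsDual w t) (hw : Coh.IsCoh w) {L : X.Modules} (hL : PicF.IsInvertible L)
    (c : Coh.structureModule X ⟶ L) {p : X} (hcp : ∀ x : X, x ≠ p → x ∈ CohB1.genLocus L c)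
    {U : X.Opens} (hpU : p ∈ U) {e : Γ(w, U)} (he : IsGen e)
    {U' : X.Opens} (hpU' : p ∈ U') {g : Γ(L, U')} (hg : IsGen g) {a : Γ(X, U')} (hcg : sec c U' = a • g)
    (ha : IsLocalRing.maximalIdeal (X.presheaf.stalk p) = Ideal.span {X.presheaf.germ U' p hpU' a})
    (hreg : X.presheaf.germ U' p hpU' a ∈ nonZeroDivisors (X.presheaf.stalk p))
    (hK : Coh.IsQCoh (kernel (mulS c w)))
    (h1 : Subsingleton (HV X L 1)) (σ : Coh.structureModule X ⟶ w) (hσ : σ ≠ 0) :
    p ∈ CohB1.genLocus w σ := by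
  by_contra hcon
  apply hσ
  -- the section is divisible by `a` near `p`
  obtain ⟨b, hb⟩ := he.exists_eq (sec σ U)
  have hbas := genLocus_inf_eq σ he hb
  have hbm : X.presheaf.germ U p hpU b ∈ IsLocalRing.maximalIdeal (X.presheaf.stalk p) := by
    rw [IsLocalRing.mem_maximalIdeal, mem_nonunits_iff, ← Scheme.mem_basicOpen _ _ _ hpU, ← hbas]
    exact fun h => hcon h.1
  rw [ha, Ideal.mem_span_singleton'] at hbm
  obtain ⟨r, hr⟩ := hbm
  have key : ∃ (V : X.Opens) (hpV : p ∈ V) (hVU' : V ≤ U') (v : Γ(w, V)),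
      sec σ V = ores hVU' a • v := by
    obtain ⟨V₁, hpV₁, r', rfl⟩ := TopCat.Presheaf.exists_germ_eq X.presheaf r
    have hp' : p ∈ V₁ ⊓ U ⊓ U' := ⟨⟨hpV₁, hpU⟩, hpU'⟩
    have hle1 : V₁ ⊓ U ⊓ U' ≤ V₁ := inf_le_left.trans inf_le_left
    have hle2 : V₁ ⊓ U ⊓ U' ≤ U := inf_le_left.trans inf_le_right
    have hle3 : V₁ ⊓ U ⊓ U' ≤ U' := inf_le_right
    have h2 : X.presheaf.germ (V₁ ⊓ U ⊓ U') p hp' (ores hle1 r' * ores hle3 a) =
        X.presheaf.germ (V₁ ⊓ U ⊓ U') p hp' (ores hle2 b) := by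
      have e1 : X.presheaf.germ (V₁ ⊓ U ⊓ U') p hp' (ores hle1 r') = X.presheaf.germ V₁ p hpV₁ r' :=
        TopCat.Presheaf.germ_res_apply _ _ _ _ _
      have e2 : X.presheaf.germ (V₁ ⊓ U ⊓ U') p hp' (ores hle2 b) = X.presheaf.germ U p hpU b :=
        TopCat.Presheaf.germ_res_apply _ _ _ _ _
      have e3 : X.presheaf.germ (V₁ ⊓ U ⊓ U') p hp' (ores hle3 a) = X.presheaf.germ U' p hpU' a :=
        TopCat.Presheaf.germ_res_apply _ _ _ _ _
      rw [map_mul, e1, e2, e3, hr]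
    obtain ⟨V, hpV, i, i', hV⟩ := X.presheaf.germ_eq p hp' hp' _ _ h2
    have hV' : ores i.le (ores hle1 r' * ores hle3 a) = ores i'.le (ores hle2 b) := hV
    refine ⟨V, hpV, i.le.trans hle3, ores (i.le.trans hle1) r' • res w (i.le.trans hle2) e, ?_⟩
    rw [map_mul, ores_ores, ores_ores, ores_ores] at hV'
    rw [← res_sec σ (i.le.trans hle2), hb, res_smul, smul_smul]
    congr 1
    rw [mul_comm]
    exact hV'.symm
  obtain ⟨V, hpV, hVU', v, hv⟩ := key
  -- the two maps to `L ⊗ w`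
  let i : w ⟶ CohB1.tensorMod L w := mulS c w
  let f : L ⟶ CohB1.tensorMod L w := mulS σ L ≫ (Ega2.Tens.swap w L).hom
  have hi : Mono i := by
    refine mulS_mono c w hw hK fun x hx => ?_
    by_cases hxp : x = p
    · subst hxp
      exact absurd hx (not_mem_ass hpU he (by rw [ha]; exact Ideal.mem_span_singleton_self _) hreg)
    · exact hcp x hxp
  have hf : ∀ (W : X.Opens) (m : Γ(L, W)), f.app W m = tmul m (sec σ W) := by
    intro W m
    have e1 : f.app W m = (Ega2.Tens.swap w L).hom.app W ((mulS σ L).app W m) := rfl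
    rw [e1, mulS_app]
    exact Ega2.Tens.swapHom_tmul _ _
  have hfac : f ≫ cokernel.π i = 0 := by
    refine Dcoh.StalkMod.hom_ext_stalk _ _ fun x => LinearMap.ext fun m => ?_
    have h0 : ∀ y : w.presheaf.stalk x, stalkLin (cokernel.π i) x (stalkLin i x y) = 0 := by
      intro y
      have h2 := congrArg (fun g => stalkLin g x y) (cokernel.condition i)
      rw [stalkLin_comp, Dcoh.StalkMod.stalkLin_zero] at h2
      exact h2
    suffices hy : ∃ y : w.presheaf.stalk x, stalkLin i x y = stalkLin f x m by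
      obtain ⟨y, hy⟩ := hy
      rw [stalkLin_comp, Dcoh.StalkMod.stalkLin_zero, LinearMap.comp_apply, ← hy]
      exact h0 y
    by_cases hxp : x = p
    · subst hxp
      obtain ⟨W, hxW, m, rfl⟩ := TopCat.Presheaf.exists_germ_eq L.presheaf m
      have hx' : x ∈ W ⊓ V := ⟨hxW, hpV⟩
      obtain ⟨d, hd⟩ := (hg.res ((inf_le_right : W ⊓ V ≤ V).trans hVU')).exists_eq (res L inf_le_left m)
      refine ⟨w.presheaf.germ (W ⊓ V) x hx' (d • res w inf_le_right v), ?_⟩
      rw [stalkLin_germ, ← germ_res' L (inf_le_left : W ⊓ V ≤ W) hx' m, stalkLin_germ]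
      congr 1
      change (mulS c w).app _ _ = f.app _ _
      rw [mulS_app, hf, hd, ← res_sec σ (inf_le_right : W ⊓ V ≤ V), hv, res_smul, ← res_sec c
        ((inf_le_right : W ⊓ V ≤ V).trans hVU'), hcg, res_smul, smul_tmul, tmul_smul, smul_tmul, tmul_smul,
        ores_ores, smul_smul, smul_smul, mul_comm]
    · have h2 := isIso_stalk_mulS c w (hcp x hxp)
      have h3 : Function.Surjective (stalkLin (mulS c w) x) :=
        ((ConcreteCategory.isIso_iff_bijective _).mp h2).2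
      exact h3 _
  let φ : L ⟶ w := (Abelian.monoIsKernelOfCokernel _ (cokernelIsCokernel i)).lift (KernelFork.ofι f hfac)
  have hφ : φ ≫ i = f := (Abelian.monoIsKernelOfCokernel _ (cokernelIsCokernel i)).fac
    (KernelFork.ofι f hfac) WalkingParallelPair.zero
  have hφ0 : φ = 0 := h.eq_zero (CurvesB.SubPoint.isCoh_of_isInvertible hL).1 h1 φ
  have hf0 : f = 0 := by rw [← hφ, hφ0, zero_comp]
  -- hence `σ = 0`
  apply hom_ext_sec
  have hcov : ∀ x : X, ∃ (W : X.Opens) (m : Γ(L, W)), x ∈ W ∧ IsGen m := (isInvertible_iff L).mp hL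
  choose W m hxW hm using hcov
  refine res_ext w (V := ⊤) W (fun _ => le_top) (fun x _ => Opens.mem_iSup.2 ⟨x, hxW x⟩) fun x => ?_
  rw [res_sec, res_sec]
  have h2 := hf (W x) (m x)
  rw [hf0] at h2
  have h3 := (tmul_left_bijective w (hm x) (le_refl (W x))).1
  apply h3
  beta_reduce
  have h4 : sec (0 : Coh.structureModule X ⟶ w) (W x) = 0 := rfl
  have h5 : tmul (m x) (0 : Γ(w, W x)) = 0 := by
    have := tmul_add (m x) (0 : Γ(w, W x)) 0
    rwa [add_zero, left_eq_add] at this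
  rw [res_refl, h4, h5, ← h2]
  rfl

end Main

end K840.OmegaPt
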